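import Cfsg.Agent.Lib.DerangeIndex.Endgame

/-!
The subgroup generated by the derangements of a primitive group without abelian normal subgroup
has index `d` with `(d + 1) ^ 2 ≤ n`.
-/

set_option autoImplicit false

namespace Cfsg.Agent.DerangeIndex

variable {G Ω : Type*} [Group G] [Finite G] [MulAction G Ω] [Finite Ω]

theorem four_le [FaithfulSMul G Ω] [MulAction.IsPretransitive G Ω] (hΩ : 2 ≤ Nat.card Ω)
    (hna : ∀ N : Subgroup G, N.Normal → IsMulCommutative ↥N → N = ⊥) : 4 ≤ Nat.card Ω := by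
  by_contra hh
  haveI : Nonempty Ω := (Nat.card_pos_iff.mp (by omega)).1
  obtain ⟨a⟩ := ‹Nonempty Ω›
  have hdvd : Nat.card G ∣ (Nat.card Ω).factorial := by
    rw [← Nat.card_perm]
    exact Subgroup.card_dvd_of_injective (MulAction.toPermHom G Ω) MulAction.toPerm_injective
  have hn : Nat.card Ω ∣ Nat.card G := by
    rw [← MulAction.index_stabilizer_of_transitive G a]
    exact Subgroup.index_dvd_card _
  set p := Nat.card Ω with hp
  have hp' : p.Prime := by
    interval_cases p
    · exact Nat.prime_two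
    · exact Nat.prime_three
  haveI := Fact.mk hp'
  obtain ⟨P, hP⟩ := Sylow.exists_subgroup_card_pow_prime p (n := 1) (by simpa using hn)
  rw [pow_one] at hP
  have hidx := Subgroup.card_mul_index P
  have h2 : P.index ∣ 2 := by
    have h3 : Nat.card P * P.index ∣ Nat.card P * 2 := by
      rw [hidx, hP]
      refine hdvd.trans ?_
      interval_cases p <;> decide
    exact Nat.dvd_of_mul_dvd_mul_left Nat.card_pos h3
  haveI : P.Normal := by
    rcases (Nat.dvd_prime Nat.prime_two).mp h2 with h | h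
    · rw [Subgroup.index_eq_one] at h; subst h; infer_instance
    · exact Subgroup.normal_of_index_eq_two h
  haveI : IsCyclic P := isCyclic_of_prime_card hP
  have h0 := hna P inferInstance inferInstance
  rw [h0, Subgroup.card_bot] at hP
  exact hp'.one_lt.ne hP

theorem index_bound (hprim : MulAction.IsPreprimitive G Ω) [FaithfulSMul G Ω]
    (hΩ : 2 ≤ Nat.card Ω)
    (hna : ∀ N : Subgroup G, N.Normal → IsMulCommutative ↥N → N = ⊥) :
    ((Subgroup.closure {g : G | ∀ ω : Ω, g • ω ≠ ω}).index + 1) ^ 2 ≤ Nat.card Ω := by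
  classical
  haveI : Fintype Ω := Fintype.ofFinite Ω
  haveI : Nontrivial Ω := Finite.one_lt_card_iff_nontrivial.mp (by omega)
  set D := Subgroup.closure {g : G | ∀ ω : Ω, g • ω ≠ ω} with hDdef
  haveI hDn : D.Normal := ⟨fun x hx g => by
    have hle : D ≤ D.comap (MulAut.conj g).toMonoidHom := by
      rw [hDdef, Subgroup.closure_le]
      intro y hy
      refine Subgroup.subset_closure fun ω he => hy (g⁻¹ • ω) ?_
      have h1 : (g * y * g⁻¹) • ω = ω := he
      rw [mul_smul, mul_smul] at h1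
      calc y • g⁻¹ • ω = g⁻¹ • g • y • g⁻¹ • ω := (inv_smul_smul g _).symm
        _ = g⁻¹ • ω := by rw [h1]
    exact hle hx⟩
  -- a derangement
  obtain ⟨a⟩ := (inferInstance : Nonempty Ω)
  obtain ⟨g₀, hg₀⟩ : ∃ g : G, ∀ ω : Ω, g • ω ≠ ω := by
    by_contra hc
    push_neg at hc
    haveI : MulAction.IsPretransitive ↥(⊤ : Subgroup G) Ω := ⟨fun x y => by
      obtain ⟨g, hg⟩ := MulAction.exists_smul_eq G x y
      exact ⟨⟨g, trivial⟩, hg⟩⟩
    obtain ⟨ω, -, hω⟩ := fix_unique (⊤ : Subgroup G) (1 : G) (Ω := Ω) (fun x _ => by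
      simpa using hc x)
    obtain ⟨x, y, hxy⟩ := exists_pair_ne Ω
    exact hxy ((hω x (one_smul _ _)).trans (hω y (one_smul _ _)).symm)
  haveI hDt : MulAction.IsPretransitive ↥D Ω := by
    rcases MulAction.IsPreprimitive.isTrivialBlock_of_isBlock
      (MulAction.IsBlock.orbit_of_normal (N := D) a) with h | h
    · exfalso
      refine hg₀ a ?_
      have h1 : g₀ • a ∈ MulAction.orbit ↥D a :=
        ⟨⟨g₀, Subgroup.subset_closure hg₀⟩, rfl⟩
      exact h h1 (MulAction.mem_orbit_self a)
    · refine ⟨fun x y => ?_⟩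
      have hx : x ∈ MulAction.orbit ↥D a := h ▸ Set.mem_univ x
      have hy : y ∈ MulAction.orbit ↥D a := h ▸ Set.mem_univ y
      rw [← MulAction.orbit_eq_iff] at hx
      rw [← hx] at hy
      exact hy
  have hd : 0 < D.index := Nat.pos_of_ne_zero Subgroup.index_ne_zero_of_finite
  rcases Nat.lt_or_ge D.index 2 with hd1 | hd2
  · have : D.index = 1 := by omega
    rw [this]
    have := four_le (G := G) hΩ hna
    omega
  by_contra hlt
  push_neg at hlt
  set d := D.index with hddef
  have hD : D ≠ ⊤ := fun h => by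
    have : d = 1 := by rw [hddef, h, Subgroup.index_top]
    omega
  have hu : ∀ g : G, g ∉ D → ∃! ω : Ω, g • ω = ω := by
    intro g hg
    refine fix_unique D g fun x hx => ?_
    by_contra hc
    push_neg at hc
    exact hg ((D.mul_mem_cancel_left hx).mp (Subgroup.subset_closure hc))
  set n := Nat.card Ω with hndef
  have hstab : ∀ ω : Ω, n * Nat.card ↥(D ⊓ MulAction.stabilizer G ω) = Nat.card D := by
    intro ω
    rw [← card_orbit_mul D ω, MulAction.orbit_eq_univ, Nat.card_coe_set_eq, Set.ncard_univ]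
  have hn0 : n ≠ 0 := by omega
  -- Sylow subgroup of the point stabiliser, and the congruence
  have main : ∀ q : ℕ, q.Prime → ∀ a : Ω, ∃ K : Subgroup G,
      K ≤ D ⊓ MulAction.stabilizer G a ∧
      Good D q (q ^ (Nat.card ↥(D ⊓ MulAction.stabilizer G a)).factorization q) K a ∧
      Nat.card K = q ^ (Nat.card ↥(D ⊓ MulAction.stabilizer G a)).factorization q := by
    intro q hq a
    haveI := Fact.mk hq
    let P : Sylow q ↥(D ⊓ MulAction.stabilizer G a) := default
    let K := (P : Subgroup ↥(D ⊓ MulAction.stabilizer G a)).map (Subgroup.subtype _)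
    have hKle : K ≤ D ⊓ MulAction.stabilizer G a := Subgroup.map_subtype_le _
    have hKc : Nat.card K = q ^ (Nat.card ↥(D ⊓ MulAction.stabilizer G a)).factorization q := by
      rw [← P.card_eq_multiplicity]
      exact Nat.card_congr
        (Subgroup.equivMapOfInjective _ _ (Subgroup.subtype_injective _)).symm.toEquiv
    refine ⟨K, hKle, ⟨hKle.trans inf_le_left, P.isPGroup'.map _,
      ⟨MulAction.stabilizer G a ⊓ Subgroup.normalizer (K : Set G), ?_, inf_le_left, inf_le_right⟩,
      ?_⟩, hKc⟩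
    · intro g
      obtain ⟨x, hx⟩ := MulAction.exists_smul_eq ↥D a (g • a)
      have hm : (x : G)⁻¹ * g ∈ MulAction.stabilizer G a := by
        show ((x : G)⁻¹ * g) • a = a
        rw [mul_smul, ← hx, Subgroup.smul_def, inv_smul_smul]
      obtain ⟨h, hh, hhN⟩ := frattini_in (q := q) (D ⊓ MulAction.stabilizer G a)
        (MulAction.stabilizer G a) K (fun m hm h hh => ⟨hDn.conj_mem _ hh.1 m,
          (MulAction.stabilizer G a).mul_mem ((MulAction.stabilizer G a).mul_mem hm hh.2)
            ((MulAction.stabilizer G a).inv_mem hm)⟩) hKle hKc _ hm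
      refine ⟨h * ((x : G)⁻¹ * g), ⟨(MulAction.stabilizer G a).mul_mem hh.2 hm, hhN⟩, ?_⟩
      have e : (h * ((x : G)⁻¹ * g))⁻¹ * g = g⁻¹ * ((x : G) * h⁻¹) * g := by group
      rw [e]
      simpa using hDn.conj_mem _ (D.mul_mem x.2 (D.inv_mem hh.1)) g⁻¹
    · rw [inf_eq_left.mpr (hKle.trans inf_le_right), hKc]
  have hκ : ∀ (q : ℕ) (a b : Ω),
      q ^ (Nat.card ↥(D ⊓ MulAction.stabilizer G a)).factorization q
        = q ^ (Nat.card ↥(D ⊓ MulAction.stabilizer G b)).factorization q := by
    intro q a b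
    have := (hstab a).trans (hstab b).symm
    rw [Nat.eq_of_mul_eq_mul_left (by omega) this]
  have hfac : ∀ (q : ℕ) (a : Ω), (Nat.card D).factorization q
      = n.factorization q + (Nat.card ↥(D ⊓ MulAction.stabilizer G a)).factorization q := by
    intro q a
    rw [← hstab a, Nat.factorization_mul hn0 Nat.card_pos.ne', Finsupp.add_apply]
  have hpart : ∀ q : ℕ, q.Prime → d ∣ q ^ n.factorization q - 1 := by
    intro q hq
    haveI := Fact.mk hq
    obtain ⟨K, -, hK, -⟩ := main q hq a
    obtain ⟨S, b, hS, hSc, -⟩ := exists_top hu hD (fun c => hκ q a c) K a hK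
    obtain ⟨C, hC, hCb, hCS⟩ := hS.cover
    have h1 := orbit_norm hu S C b hC hCb hCS
    have h2 := card_orbit_mul S b
    rw [hS.inf_card, hSc, hfac q a, pow_add] at h2
    rw [← Nat.eq_of_mul_eq_mul_right (pow_pos hq.pos _) h2]
    exact h1
  have hbig : ∀ q : ℕ, q.Prime → q ∣ n → d + 1 ≤ q ^ n.factorization q := by
    intro q hq hqn
    have h1 : 1 < q ^ n.factorization q :=
      Nat.one_lt_pow (hq.factorization_pos_of_dvd hn0 hqn).ne' hq.one_lt
    have := Nat.le_of_dvd (by omega) (hpart q hq)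
    omega
  -- the degree is a prime power
  set q := n.minFac with hqdef
  have hq : q.Prime := Nat.minFac_prime (by omega)
  haveI := Fact.mk hq
  have hpp : q ^ n.factorization q = n := by
    by_contra hne
    set m := n / q ^ n.factorization q with hm
    have hmn : q ^ n.factorization q * m = n := Nat.ordProj_mul_ordCompl_eq_self n q
    have hm1 : m ≠ 1 := fun h => hne (by rwa [h, mul_one] at hmn)
    obtain ⟨r, hr, hrm⟩ := Nat.exists_prime_and_dvd hm1
    have hrq : r ≠ q := by
      rintro rfl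
      exact Nat.not_dvd_ordCompl hq hn0 hrm
    have hrn : r ∣ n := hrm.trans ⟨_, (mul_comm _ m ▸ hmn).symm⟩
    have hdvd : q ^ n.factorization q * r ^ n.factorization r ∣ n :=
      (((Nat.coprime_primes hq hr).mpr hrq.symm).pow _ _).mul_dvd_of_dvd_of_dvd
        (Nat.ordProj_dvd n q) (Nat.ordProj_dvd n r)
    have h1 := Nat.le_of_dvd (by omega) hdvd
    have h2 := Nat.mul_le_mul (hbig q hq (Nat.minFac_dvd n)) (hbig r hr hrn)
    rw [sq] at hlt
    omega
  obtain ⟨K, hKle, hK, hKc⟩ := main q hq a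
  set κ := q ^ (Nat.card ↥(D ⊓ MulAction.stabilizer G a)).factorization q with hκdef
  have hκpos : 0 < κ := pow_pos hq.pos _
  have hDq : q ^ (Nat.card D).factorization q = n * κ := by
    rw [hfac q a, pow_add, hpp]
  obtain ⟨Q, a₂, hQ, -, hQN, hQc⟩ := exists_above hu hD (fun c => hκ q a c) K a hK
    (by rw [hKc, hDq]; exact lt_mul_of_one_lt_left hκpos (by omega))
  obtain ⟨S, b, -, hSc, hor⟩ := exists_top hu hD (fun c => hκ q a c) Q a₂ hQ
  have hQcard : Nat.card Q = n * κ := by
    rcases hor with h | h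
    · rw [h, hSc, hDq]
    · exfalso
      rw [hSc, hDq] at h
      rw [hKc] at hQc
      have h3 : κ * ((d + 1) * (d + 1)) ≤ κ * n :=
        calc κ * ((d + 1) * (d + 1)) = κ * (d + 1) * (d + 1) := by ring
          _ ≤ Nat.card Q * (d + 1) := Nat.mul_le_mul_right _ hQc
          _ ≤ n * κ := h
          _ = κ * n := by ring
      have := Nat.le_of_mul_le_mul_left h3 hκpos
      rw [sq] at hlt
      omega
  have horb : MulAction.orbit ↥Q a₂ = Set.univ := by
    refine Set.eq_of_subset_of_ncard_le (Set.subset_univ _) ?_ (Set.toFinite _)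
    have h := card_orbit_mul Q a₂
    rw [hQ.inf_card, hQcard] at h
    rw [Set.ncard_univ, ← Nat.card_coe_set_eq, Nat.eq_of_mul_eq_mul_right hκpos h]
  have hQt : ∀ x y : Ω, ∃ g ∈ Q, g • x = y := by
    intro x y
    obtain ⟨u, hu'⟩ : x ∈ MulAction.orbit ↥Q a₂ := horb ▸ Set.mem_univ x
    obtain ⟨v, hv⟩ : y ∈ MulAction.orbit ↥Q a₂ := horb ▸ Set.mem_univ y
    refine ⟨(v * u⁻¹ : Q), (v * u⁻¹ : Q).2, ?_⟩
    show (v * u⁻¹) • x = y
    rw [← hu', ← hv]
    show (v * u⁻¹) • u • a₂ = v • a₂
    rw [mul_smul, inv_smul_smul]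
  have hKbot : K = ⊥ := by
    rw [Subgroup.eq_bot_iff_forall]
    intro k hk
    refine eq_of_smul_eq_smul (fun z : Ω => ?_)
    obtain ⟨g, hg, hgz⟩ := hQt a z
    have h1 : g⁻¹ * k * g ∈ K := by
      have := (Subgroup.mem_normalizer_iff.mp (hQN (Q.inv_mem hg)) k).mp hk
      simpa using this
    have h2 : (g⁻¹ * k * g) • a = a := (hKle h1).2
    rw [mul_smul, mul_smul, hgz, inv_smul_eq_iff, hgz] at h2
    rw [h2, one_smul]
  have hκ1 : κ = 1 := by rw [← hKc, hKbot, Subgroup.card_bot]
  have hfree : ∀ g ∈ Q, g • a₂ = a₂ → g = 1 := by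
    intro g hg hga
    have h := hQ.inf_card
    rw [← hκdef, hκ1, Subgroup.card_eq_one] at h
    exact Subgroup.mem_bot.mp (h ▸ (⟨hg, hga⟩ : g ∈ Q ⊓ MulAction.stabilizer G a₂))
  obtain ⟨C, hC, hCa, hCQ⟩ := hQ.cover
  have hcomm : ⁅Q, Q⁆ = ⊥ := by
    by_contra hne
    have hle : ⁅Q, Q⁆ ≤ Q := by
      rw [← Subgroup.map_subtype_commutator]; exact Subgroup.map_subtype_le _
    have hCQ' : C ≤ Subgroup.normalizer ((⁅Q, Q⁆ : Subgroup G) : Set G) := by
      intro c hc
      have hmap : Q.map (MulAut.conj c).toMonoidHom = Q := by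
        refine le_antisymm ?_ fun x hx => ⟨c⁻¹ * x * c, ?_, by simp [mul_assoc]⟩
        · rintro x ⟨r, hr, rfl⟩
          simpa using (Subgroup.mem_normalizer_iff.mp (hCQ hc) r).mp hr
        · exact (Subgroup.mem_normalizer_iff.mp (hCQ hc) _).mpr (by simpa [mul_assoc] using hx)
      have hmap' : (⁅Q, Q⁆ : Subgroup G).map (MulAut.conj c).toMonoidHom = ⁅Q, Q⁆ := by
        rw [Subgroup.map_commutator, hmap]
      rw [Subgroup.mem_normalizer_iff]
      intro x
      conv_rhs => rw [← hmap']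
      simp [Subgroup.mem_map, mul_assoc]
    have hG' : Good D q κ (⁅Q, Q⁆ : Subgroup G) a₂ := by
      refine ⟨hle.trans hQ.le, hQ.pgroup.to_le hle, ⟨C, hC, hCa, hCQ'⟩, ?_⟩
      rw [hκ1, Subgroup.card_eq_one, eq_bot_iff]
      exact fun x hx => Subgroup.mem_bot.mpr (hfree x (hle hx.1) hx.2)
    have h1 := orbit_norm hu _ C a₂ hC hCa hCQ'
    have h2 := card_orbit_mul (⁅Q, Q⁆ : Subgroup G) a₂
    rw [hG'.inf_card, hκ1, mul_one] at h2
    rw [h2] at h1
    have hgt : 1 < Nat.card (⁅Q, Q⁆ : Subgroup G) :=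
      Finite.one_lt_card_iff_nontrivial.mpr ((Subgroup.nontrivial_iff_ne_bot _).mpr hne)
    have h3 := Nat.le_of_dvd (by omega) h1
    haveI : Group.IsNilpotent Q := hQ.pgroup.isNilpotent
    haveI : Nontrivial Q := Finite.one_lt_card_iff_nontrivial.mp
      (lt_of_lt_of_le hgt (Subgroup.card_le_of_le hle))
    have hlt' : Nat.card (⁅Q, Q⁆ : Subgroup G) < Nat.card Q := by
      refine lt_of_le_of_ne (Subgroup.card_le_of_le hle) fun he => ?_
      have heq : ⁅Q, Q⁆ = Q := Subgroup.eq_of_le_of_card_ge hle he.ge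
      rw [← Subgroup.map_subtype_commutator] at heq
      have : commutator Q = ⊤ := by
        apply Subgroup.map_injective Q.subtype_injective
        rw [heq, ← MonoidHom.range_eq_map, Subgroup.range_subtype]
      exact (Group.IsSolvable.commutator_lt_top_of_nontrivial Q).ne this
    obtain ⟨S', b', -, hS'c, hor'⟩ := exists_top hu hD (fun c => hκ q a c) _ a₂ hG'
    rcases hor' with h | h
    · rw [hS'c, hDq, ← hQcard] at h; omega
    · rw [hS'c, hDq, hκ1, mul_one] at h
      have h4 : (d + 1) * (d + 1) ≤ n :=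
        le_trans (Nat.mul_le_mul_right _ (by omega)) h
      rw [sq] at hlt
      omega
  obtain ⟨N, hN, hNc, hNne⟩ := endgame D hu hlt a₂ Q C hQ.le
    (fun x hx y hy => by
      have := Subgroup.commutator_mem_commutator hx hy
      rw [hcomm, Subgroup.mem_bot, commutatorElement_eq_one_iff_mul_comm] at this
      exact this)
    (fun z => hQt a₂ z) hfree hC hCa hCQ
  exact hNne (hna N hN hNc)

end Cfsg.Agent.DerangeIndex
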