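import Mathlib

/-!
Basic facts about a transitive action in which every element outside a transitive normal
subgroup `D` fixes some point.
-/

set_option autoImplicit false

namespace Cfsg.Agent.DerangeIndex

variable {G Ω : Type*} [Group G] [Finite G] [MulAction G Ω] [Finite Ω]

/-- `M` meets every coset of `D`. -/
def Cover (D M : Subgroup G) : Prop := ∀ g : G, ∃ m ∈ M, m⁻¹ * g ∈ D

theorem card_orbit_mul (M : Subgroup G) (a : Ω) :
    Nat.card (MulAction.orbit ↥M a) * Nat.card ↥(M ⊓ MulAction.stabilizer G a)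
      = Nat.card M := by
  have e : ↥(MulAction.stabilizer ↥M a) ≃ ↥(M ⊓ MulAction.stabilizer G a) :=
    { toFun := fun x => ⟨(x.1 : G), x.1.2, x.2⟩
      invFun := fun x => ⟨⟨x.1, x.2.1⟩, x.2.2⟩
      left_inv := fun _ => rfl
      right_inv := fun _ => rfl }
  rw [← Nat.card_congr e, ← Nat.card_prod]
  exact Nat.card_congr (MulAction.orbitProdStabilizerEquivGroup ↥M a)

theorem fix_unique (D : Subgroup G) [MulAction.IsPretransitive ↥D Ω] (g : G)
    (h : ∀ x ∈ D, ∃ ω : Ω, (x * g) • ω = ω) : ∃! ω : Ω, g • ω = ω := by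
  classical
  obtain ⟨ω₀, hω₀⟩ := h 1 D.one_mem
  rw [one_mul] at hω₀
  let T := Σ ω : Ω, {x : D // ((x : G) * g) • ω = ω}
  let pr : T → D := fun t => t.2.1
  have hsurj : Function.Surjective pr := by
    intro x
    obtain ⟨ω, hω⟩ := h x x.2
    exact ⟨⟨ω, x, hω⟩, rfl⟩
  haveI : Fintype Ω := Fintype.ofFinite Ω
  haveI : Fintype D := Fintype.ofFinite D
  have hc : ∀ ω : Ω, Nat.card {x : D // ((x : G) * g) • ω = ω}
      = Nat.card (MulAction.stabilizer ↥D ω₀) := by
    intro ω
    obtain ⟨u, hu⟩ := MulAction.exists_smul_eq ↥D ω₀ ω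
    obtain ⟨v, hv⟩ := MulAction.exists_smul_eq ↥D (g • ω) ω₀
    exact Nat.card_congr
      { toFun := fun x => ⟨u⁻¹ * x.1 * v⁻¹, by
          rw [MulAction.mem_stabilizer_iff, mul_smul, mul_smul]
          have h1 : v⁻¹ • ω₀ = g • ω := by rw [← hv, inv_smul_smul]
          rw [h1]
          have h2 : x.1 • (g • ω) = ω := by
            rw [Subgroup.smul_def, ← mul_smul]; exact x.2
          rw [h2, ← hu, inv_smul_smul]⟩
        invFun := fun y => ⟨u * y.1 * v, by
          have : (u * y.1 * v) • (g • ω) = ω := by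
            rw [mul_smul, mul_smul, hv, MulAction.mem_stabilizer_iff.mp y.2, hu]
          rw [Subgroup.smul_def, ← mul_smul] at this
          exact this⟩
        left_inv := fun x => by apply Subtype.ext; simp [mul_assoc]
        right_inv := fun y => by apply Subtype.ext; simp [mul_assoc] }
  have hT : Nat.card T = Nat.card D := by
    rw [Nat.card_sigma, Finset.sum_congr rfl (fun ω _ => hc ω), Finset.sum_const,
      Finset.card_univ, smul_eq_mul, ← Nat.card_eq_fintype_card,
      ← MulAction.index_stabilizer_of_transitive ↥D ω₀, Subgroup.index_mul_card]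
  have hbij : Function.Bijective pr :=
    (Nat.bijective_iff_surjective_and_card pr).mpr ⟨hsurj, hT⟩
  refine ⟨ω₀, hω₀, fun ω hω => ?_⟩
  have e : (⟨ω, (1 : D), by simpa using hω⟩ : T) = ⟨ω₀, (1 : D), by simpa using hω₀⟩ :=
    hbij.1 rfl
  exact congrArg Sigma.fst e

/-- Every covering subgroup has a covering point stabiliser, unique up to `M ⊓ D`. -/
theorem special (D : Subgroup G) [D.Normal] (hu : ∀ g : G, g ∉ D → ∃! ω : Ω, g • ω = ω)
    (hD : D ≠ ⊤) (M : Subgroup G) (hM : Cover D M) :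
    ∃ a : Ω, Cover D (M ⊓ MulAction.stabilizer G a) ∧
      ∀ c : Ω, Cover D (M ⊓ MulAction.stabilizer G c) → ∃ m ∈ M ⊓ D, m • a = c := by
  classical
  haveI : Fintype Ω := Fintype.ofFinite Ω
  haveI : Fintype G := Fintype.ofFinite G
  obtain ⟨g₁, hg₁⟩ : ∃ g : G, g ∉ D := by
    by_contra hh
    push_neg at hh
    exact hD (eq_top_iff.mpr fun x _ => hh x)
  obtain ⟨g, hgM, hgD⟩ : ∃ g ∈ M, g ∉ D := by
    obtain ⟨m, hm, hmD⟩ := hM g₁
    refine ⟨m, hm, fun hh => hg₁ ?_⟩
    simpa [← mul_assoc] using D.mul_mem hh hmD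
  obtain ⟨a, ha, -⟩ := hu g hgD
  let E : Finset G := Finset.univ.filter (fun x => x ∈ M ∧ x ∉ D)
  let Ef : Ω → Finset G := fun ω => E.filter (fun x => x • ω = ω)
  have hsplit : ∀ ω : Ω, (Ef ω).card + Nat.card ↥((M ⊓ D) ⊓ MulAction.stabilizer G ω)
      = Nat.card ↥(M ⊓ MulAction.stabilizer G ω) := by
    intro ω
    rw [Nat.card_eq_fintype_card, Nat.card_eq_fintype_card,
      Fintype.card_subtype, Fintype.card_subtype, add_comm,
      ← Finset.card_union_of_disjoint]
    · congr 1
      ext x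
      simp only [Ef, E, Finset.mem_union, Finset.mem_filter, Finset.mem_univ, true_and,
        Subgroup.mem_inf, MulAction.mem_stabilizer_iff]
      tauto
    · rw [Finset.disjoint_left]
      intro x hx hx'
      simp only [Ef, E, Finset.mem_filter, Finset.mem_univ, true_and,
        Subgroup.mem_inf, MulAction.mem_stabilizer_iff] at hx hx'
      exact hx'.1.2 hx.1.2
  have hconst : ∀ ω : Ω, ∀ m ∈ M, (Ef (m • ω)).card = (Ef ω).card := by
    intro ω m hm
    refine (Finset.card_bij (fun x _ => m * x * m⁻¹) ?_ ?_ ?_).symm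
    · intro x hx
      simp only [Ef, E, Finset.mem_filter, Finset.mem_univ, true_and] at hx ⊢
      refine ⟨⟨M.mul_mem (M.mul_mem hm hx.1.1) (M.inv_mem hm), fun hh => hx.1.2 ?_⟩, ?_⟩
      · have := Subgroup.Normal.conj_mem ‹D.Normal› _ hh m⁻¹
        simpa [mul_assoc] using this
      · rw [mul_smul, mul_smul, inv_smul_smul, hx.2]
    · intro x _ y _ hxy
      exact mul_left_cancel (mul_right_cancel hxy)
    · intro y hy
      simp only [Ef, E, Finset.mem_filter, Finset.mem_univ, true_and] at hy ⊢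
      refine ⟨m⁻¹ * y * m, ⟨⟨M.mul_mem (M.mul_mem (M.inv_mem hm) hy.1.1) hm,
        fun hh => hy.1.2 ?_⟩, ?_⟩, by group⟩
      · have := Subgroup.Normal.conj_mem ‹D.Normal› _ hh m
        simpa [mul_assoc] using this
      · rw [mul_smul, mul_smul, hy.2, inv_smul_smul]
  have hdisj : ∀ ω ω' : Ω, ω ≠ ω' → Disjoint (Ef ω) (Ef ω') := by
    intro ω ω' hne
    rw [Finset.disjoint_left]
    intro x hx hx'
    simp only [Ef, E, Finset.mem_filter, Finset.mem_univ, true_and] at hx hx'
    obtain ⟨z, -, hz⟩ := hu x hx.1.2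
    exact hne ((hz ω hx.2).trans (hz ω' hx'.2).symm)
  let Orb : Ω → Finset Ω := fun ω => Finset.univ.filter (fun z => z ∈ MulAction.orbit ↥M ω)
  have hOrb : ∀ ω : Ω, (Orb ω).card = Nat.card (MulAction.orbit ↥M ω) := by
    intro ω
    rw [Nat.card_eq_fintype_card, Fintype.card_subtype]
  have hbU : ∀ ω : Ω, ((Orb ω).biUnion Ef).card = (Orb ω).card * (Ef ω).card := by
    intro ω
    rw [Finset.card_biUnion (fun x _ y _ hne => hdisj x y hne)]
    rw [Finset.sum_const_nat (m := (Ef ω).card)]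
    intro z hz
    simp only [Orb, Finset.mem_filter, Finset.mem_univ, true_and] at hz
    obtain ⟨m, hm⟩ := hz
    rw [← hm]
    exact hconst ω m m.2
  have hhalf : ∀ ω : Ω, (Ef ω).Nonempty →
      Nat.card M ≤ 2 * ((Orb ω).card * (Ef ω).card) := by
    intro ω hne
    obtain ⟨x, hx⟩ := hne
    have h1 : Nat.card ↥((M ⊓ D) ⊓ MulAction.stabilizer G ω) ≤ (Ef ω).card := by
      rw [Nat.card_eq_fintype_card, Fintype.card_subtype]
      refine Finset.card_le_card_of_injOn (fun y => x * y) ?_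
        (fun y _ z _ hyz => mul_left_cancel hyz)
      intro y hy
      simp only [Finset.coe_filter, Finset.mem_univ, true_and, Set.mem_setOf_eq,
        Subgroup.mem_inf, MulAction.mem_stabilizer_iff] at hy
      simp only [Ef, E, Finset.mem_filter, Finset.mem_univ, true_and] at hx
      simp only [Finset.mem_coe, Ef, E, Finset.mem_filter, Finset.mem_univ, true_and]
      refine ⟨⟨M.mul_mem hx.1.1 hy.1.1, fun hh => hx.1.2 ?_⟩, ?_⟩
      · simpa using D.mul_mem hh (D.inv_mem hy.1.2)
      · rw [mul_smul, hy.2, hx.2]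
    have h2 := card_orbit_mul M ω
    rw [← hOrb] at h2
    rw [← h2]
    have h3 := hsplit ω
    calc (Orb ω).card * Nat.card ↥(M ⊓ MulAction.stabilizer G ω)
        ≤ (Orb ω).card * (2 * (Ef ω).card) := Nat.mul_le_mul_left _ (by omega)
      _ = 2 * ((Orb ω).card * (Ef ω).card) := by ring
  have hEM : E.card + Nat.card ↥(M ⊓ D) = Nat.card M := by
    rw [Nat.card_eq_fintype_card, Nat.card_eq_fintype_card, Fintype.card_subtype,
      Fintype.card_subtype, add_comm, ← Finset.card_union_of_disjoint]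
    · congr 1
      ext x
      simp only [E, Finset.mem_union, Finset.mem_filter, Finset.mem_univ, true_and,
        Subgroup.mem_inf]
      tauto
    · rw [Finset.disjoint_left]
      intro x hx hx'
      simp only [E, Finset.mem_filter, Finset.mem_univ, true_and, Subgroup.mem_inf] at hx hx'
      exact hx'.2 hx.2
  have hpos : 0 < Nat.card ↥(M ⊓ D) := Nat.card_pos
  have haE : (Ef a).Nonempty := ⟨g, by simp [Ef, E, hgM, hgD, ha]⟩
  have hsub : ∀ ω : Ω, (Orb ω).biUnion Ef ⊆ E := fun ω =>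
    Finset.biUnion_subset.mpr fun z _ => Finset.filter_subset _ _
  have hone : ∀ c : Ω, (Ef c).Nonempty → c ∈ MulAction.orbit ↥M a := by
    intro c hc
    by_contra hnot
    have hd : Disjoint ((Orb a).biUnion Ef) ((Orb c).biUnion Ef) := by
      rw [Finset.disjoint_biUnion_left]
      intro z hz
      rw [Finset.disjoint_biUnion_right]
      intro w hw
      refine hdisj z w fun hzw => hnot ?_
      simp only [Orb, Finset.mem_filter, Finset.mem_univ, true_and] at hz hw
      rw [hzw] at hz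
      rw [← MulAction.orbit_eq_iff] at hz hw
      rw [← hz, hw]
      exact MulAction.mem_orbit_self c
    have := Finset.card_le_card (Finset.union_subset (hsub a) (hsub c))
    rw [Finset.card_union_of_disjoint hd, hbU, hbU] at this
    have h1 := hhalf a haE
    have h2 := hhalf c hc
    omega
  have hEcard : (Orb a).card * (Ef a).card = E.card := by
    rw [← hbU]
    congr 1
    refine Finset.Subset.antisymm (hsub a) fun x hx => ?_
    have hx' : x ∈ M ∧ x ∉ D := by simpa [E] using hx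
    obtain ⟨c, hc, -⟩ := hu x hx'.2
    have hxc : x ∈ Ef c := by simp [Ef, E, hx'.1, hx'.2, hc]
    exact Finset.mem_biUnion.mpr ⟨c, by simpa [Orb] using hone c ⟨x, hxc⟩, hxc⟩
  have hprod : (Orb a).card * Nat.card ↥((M ⊓ D) ⊓ MulAction.stabilizer G a)
      = Nat.card ↥(M ⊓ D) := by
    have h1 := card_orbit_mul M a
    rw [← hOrb, ← hsplit a, mul_add, hEcard] at h1
    omega
  have horb : MulAction.orbit ↥(M ⊓ D) a = MulAction.orbit ↥M a := by
    refine Set.eq_of_subset_of_ncard_le ?_ ?_ (Set.toFinite _)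
    · rintro z ⟨x, rfl⟩
      exact ⟨⟨x.1, x.2.1⟩, rfl⟩
    · rw [← Nat.card_coe_set_eq, ← Nat.card_coe_set_eq, ← hOrb a]
      refine le_of_eq (Nat.eq_of_mul_eq_mul_right (Nat.card_pos (α :=
        ↥((M ⊓ D) ⊓ MulAction.stabilizer G a))) ?_)
      rw [hprod, card_orbit_mul (M ⊓ D) a]
  refine ⟨a, ?_, ?_⟩
  · intro x
    obtain ⟨m, hm, hmD⟩ := hM x
    have : m • a ∈ MulAction.orbit ↥(M ⊓ D) a := by
      rw [horb]; exact ⟨⟨m, hm⟩, rfl⟩
    obtain ⟨y, hy⟩ := this
    refine ⟨(y : G)⁻¹ * m, ⟨M.mul_mem (M.inv_mem y.2.1) hm, ?_⟩, ?_⟩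
    · show ((y : G)⁻¹ * m) • a = a
      rw [mul_smul, ← hy]
      exact inv_smul_smul (y : G) a
    · have e : ((y : G)⁻¹ * m)⁻¹ * x = (m⁻¹ * (y : G) * m) * (m⁻¹ * x) := by group
      rw [e]
      refine D.mul_mem ?_ hmD
      simpa using Subgroup.Normal.conj_mem ‹D.Normal› _ y.2.2 m⁻¹
  · intro c hc
    obtain ⟨m, hm, hmD⟩ := hc g₁
    have hmnot : m ∉ D := fun hh => hg₁ (by simpa [← mul_assoc] using D.mul_mem hh hmD)
    have hcE : (Ef c).Nonempty := ⟨m, by
      simp only [Ef, E, Finset.mem_filter, Finset.mem_univ, true_and]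
      exact ⟨⟨hm.1, hmnot⟩, hm.2⟩⟩
    have := hone c hcE
    rw [← horb] at this
    obtain ⟨y, hy⟩ := this
    exact ⟨y, y.2, hy⟩

end Cfsg.Agent.DerangeIndex
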