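import Cfsg.Agent.Lib.DerangeIndex.Basic

/-!
The `q`-part of the degree is `1` modulo the index of `D`, with a chain of normalised
`q`-subgroups.
-/

set_option autoImplicit false

namespace Cfsg.Agent.DerangeIndex

variable {G Ω : Type*} [Group G] [Finite G] [MulAction G Ω] [Finite Ω]

theorem card_cover (D M : Subgroup G) [D.Normal] (hM : Cover D M) :
    Nat.card ↥(M ⊓ D) * D.index = Nat.card M := by
  have h1 : ((QuotientGroup.mk' D).comp M.subtype).range = ⊤ := by
    rw [eq_top_iff]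
    intro x _
    obtain ⟨g, rfl⟩ := QuotientGroup.mk'_surjective D x
    obtain ⟨m, hm, hmD⟩ := hM g
    exact ⟨⟨m, hm⟩, (QuotientGroup.eq).mpr hmD⟩
  have h2 : ((QuotientGroup.mk' D).comp M.subtype).ker = D.subgroupOf M := by
    rw [← MonoidHom.comap_ker, QuotientGroup.ker_mk']; rfl
  have h3 := Subgroup.index_ker ((QuotientGroup.mk' D).comp M.subtype)
  rw [h1, Subgroup.card_top, h2] at h3
  have h4 := Subgroup.card_mul_index (D.subgroupOf M)
  rw [h3] at h4
  have e : ↥(D.subgroupOf M) ≃ ↥(M ⊓ D) :=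
    { toFun := fun x => ⟨(x.1 : G), x.1.2, x.2⟩
      invFun := fun x => ⟨⟨x.1, x.2.1⟩, x.2.2⟩
      left_inv := fun _ => rfl
      right_inv := fun _ => rfl }
  rw [← Nat.card_congr e, ← h4]
  rfl

theorem orbit_congr (D : Subgroup G) [D.Normal]
    (hu : ∀ g : G, g ∉ D → ∃! ω : Ω, g • ω = ω) (C : Subgroup G) (hC : Cover D C) (a : Ω)
    (hCa : C ≤ MulAction.stabilizer G a) (A : Set Ω) (hA : ∀ c ∈ C, ∀ z ∈ A, c • z ∈ A)
    (haA : a ∈ A) : D.index ∣ A.ncard - 1 := by
  classical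
  have horb : ∀ z : Ω, z ≠ a → D.index ∣ (MulAction.orbit ↥C z).ncard := by
    intro z hz
    have h1 := card_orbit_mul C z
    have h2 := card_cover D C hC
    have hle : C ⊓ MulAction.stabilizer G z ≤ C ⊓ D := by
      intro x hx
      refine ⟨hx.1, ?_⟩
      by_contra hxD
      obtain ⟨w, -, hw⟩ := hu x hxD
      exact hz ((hw z hx.2).trans (hw a (hCa hx.1)).symm)
    obtain ⟨k, hk⟩ := Subgroup.card_dvd_of_le hle
    rw [← Nat.card_coe_set_eq]
    refine ⟨k, Nat.eq_of_mul_eq_mul_right (Nat.card_pos (α :=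
      ↥(C ⊓ MulAction.stabilizer G z))) ?_⟩
    rw [h1, ← h2, hk]; ring
  have key : ∀ (n : ℕ) (s : Set Ω), s.ncard = n → (∀ c ∈ C, ∀ z ∈ s, c • z ∈ s) → a ∉ s →
      D.index ∣ n := by
    intro n
    induction n using Nat.strong_induction_on with
    | _ n ih =>
      intro s hs hinv has
      rcases s.eq_empty_or_nonempty with h0 | ⟨z, hz⟩
      · rw [← hs, h0, Set.ncard_empty]; exact dvd_zero _
      have hsub : MulAction.orbit ↥C z ⊆ s := by
        rintro w ⟨c, rfl⟩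
        exact hinv c c.2 z hz
      have hinv' : ∀ c ∈ C, ∀ w ∈ s \ MulAction.orbit ↥C z,
          c • w ∈ s \ MulAction.orbit ↥C z := by
        intro c hc w hw
        refine ⟨hinv c hc w hw.1, fun hh => hw.2 ?_⟩
        rw [← MulAction.orbit_eq_iff] at hh ⊢
        rw [← hh]
        exact (MulAction.orbit_smul (⟨c, hc⟩ : C) w).symm
      have hcard : (s \ MulAction.orbit ↥C z).ncard + (MulAction.orbit ↥C z).ncard = n := by
        rw [← hs, Set.ncard_diff hsub (Set.toFinite _)]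
        have := Set.ncard_le_ncard hsub (Set.toFinite _)
        omega
      have hpos : 0 < (MulAction.orbit ↥C z).ncard :=
        (Set.ncard_pos (Set.toFinite _)).mpr ⟨z, MulAction.mem_orbit_self z⟩
      rw [← hcard]
      exact dvd_add (ih _ (by omega) _ rfl hinv' (fun h => has h.1))
        (horb z (fun h => has (h ▸ hz)))
  refine key _ (A \ {a}) ?_ ?_ (fun h => h.2 rfl)
  · rw [Set.ncard_diff (Set.singleton_subset_iff.mpr haA) (Set.toFinite _),
      Set.ncard_singleton]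
  · intro c hc z hz
    refine ⟨hA c hc z hz.1, fun hh => hz.2 ?_⟩
    have h1 : c • z = a := hh
    have h2 : c • a = a := hCa hc
    exact smul_left_cancel c (h1.trans h2.symm)

theorem frattini_in {q : ℕ} [Fact q.Prime] (H M R : Subgroup G)
    (hn : ∀ m ∈ M, ∀ h ∈ H, m * h * m⁻¹ ∈ H) (hR : R ≤ H)
    (hcard : Nat.card R = q ^ (Nat.card H).factorization q) (m : G) (hm : m ∈ M) :
    ∃ h ∈ H, h * m ∈ Subgroup.normalizer (R : Set G) := by
  classical
  let R' := R.map (MulAut.conj m).toMonoidHom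
  have hR' : R' ≤ H := by
    rintro x ⟨r, hr, rfl⟩
    simpa using hn m hm r (hR hr)
  have hc' : Nat.card R' = Nat.card R :=
    Nat.card_congr (R.equivMapOfInjective _ (MulAut.conj m).injective).symm.toEquiv
  let P : Sylow q H := Sylow.ofCard (R'.subgroupOf H)
    (by rw [Nat.card_congr (Subgroup.subgroupOfEquivOfLe hR').toEquiv, hc', hcard])
  let Q : Sylow q H := Sylow.ofCard (R.subgroupOf H)
    (by rw [Nat.card_congr (Subgroup.subgroupOfEquivOfLe hR).toEquiv, hcard])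
  obtain ⟨h, hh⟩ := MulAction.exists_smul_eq H P Q
  refine ⟨h, h.2, ?_⟩
  rw [Subgroup.mem_normalizer_iff]
  intro x
  have key : ∀ y : G, ∀ hy : y ∈ H, (y ∈ R' ↔ (h : G) * y * (h : G)⁻¹ ∈ R) := by
    intro y hy
    have e : ((h • P : Sylow q H) : Subgroup H) = (Q : Subgroup H) := by rw [hh]
    rw [Sylow.coe_subgroup_smul] at e
    constructor
    · intro hyR
      have : (h * ⟨y, hy⟩ * h⁻¹ : H) ∈ (Q : Subgroup H) := by
        rw [← e, Subgroup.mem_pointwise_smul_iff_inv_smul_mem]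
        show (MulAut.conj h)⁻¹ (h * ⟨y, hy⟩ * h⁻¹) ∈ R'.subgroupOf H
        rw [Subgroup.mem_subgroupOf]
        simpa [MulAut.conj_inv_apply, mul_assoc] using hyR
      simpa [Q, Subgroup.mem_subgroupOf] using this
    · intro hyR
      have : (h * ⟨y, hy⟩ * h⁻¹ : H) ∈ (Q : Subgroup H) := by
        simpa [Q, Subgroup.mem_subgroupOf] using hyR
      rw [← e, Subgroup.mem_pointwise_smul_iff_inv_smul_mem] at this
      have h2 : (MulAut.conj h)⁻¹ (h * ⟨y, hy⟩ * h⁻¹) ∈ R'.subgroupOf H := this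
      rw [Subgroup.mem_subgroupOf] at h2
      simpa [MulAut.conj_inv_apply, mul_assoc] using h2
  constructor
  · intro hx
    have h1 : m * x * m⁻¹ ∈ R' := ⟨x, hx, rfl⟩
    have := (key _ (hR' h1)).mp h1
    have e : (h : G) * m * x * ((h : G) * m)⁻¹ = (h : G) * (m * x * m⁻¹) * (h : G)⁻¹ := by group
    rwa [e]
  · intro hx
    have e : (h : G) * m * x * ((h : G) * m)⁻¹ = (h : G) * (m * x * m⁻¹) * (h : G)⁻¹ := by group
    rw [e] at hx
    have h1 : m * x * m⁻¹ ∈ H := by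
      have := H.mul_mem (H.mul_mem (H.inv_mem h.2) (hR hx)) h.2
      simpa [mul_assoc] using this
    obtain ⟨r, hr, hrx⟩ := (key _ h1).mpr hx
    have : r = x := by
      simp only [MulEquiv.coe_toMonoidHom, MulAut.conj_apply] at hrx
      exact mul_left_cancel (mul_right_cancel hrx)
    rwa [← this]

/-- A `q`-subgroup of `D` normalised by a covering subgroup fixing `a`, meeting the stabiliser
of `a` in as much as possible. -/
structure Good (D : Subgroup G) (q : ℕ) (κ : ℕ) (R : Subgroup G) (a : Ω) : Prop where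
  le : R ≤ D
  pgroup : IsPGroup q R
  cover : ∃ C : Subgroup G, Cover D C ∧ C ≤ MulAction.stabilizer G a ∧
    C ≤ Subgroup.normalizer (R : Set G)
  inf_card : Nat.card ↥(R ⊓ MulAction.stabilizer G a) = κ

theorem card_conj (R : Subgroup G) (m : G) (hm : m ∈ Subgroup.normalizer (R : Set G)) (a : Ω) :
    Nat.card ↥(R ⊓ MulAction.stabilizer G (m • a))
      = Nat.card ↥(R ⊓ MulAction.stabilizer G a) := by
  refine Nat.card_congr
    { toFun := fun x => ⟨m⁻¹ * x.1 * m, ?_, ?_⟩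
      invFun := fun x => ⟨m * x.1 * m⁻¹, ?_, ?_⟩
      left_inv := fun x => by apply Subtype.ext; simp [mul_assoc]
      right_inv := fun x => by apply Subtype.ext; simp [mul_assoc] }
  · have := (Subgroup.mem_normalizer_iff.mp hm (m⁻¹ * x.1 * m)).mpr
      (by simpa [mul_assoc] using x.2.1)
    exact this
  · show (m⁻¹ * x.1 * m) • a = a
    rw [mul_smul, mul_smul, MulAction.mem_stabilizer_iff.mp x.2.2, inv_smul_smul]
  · exact (Subgroup.mem_normalizer_iff.mp hm x.1).mp x.2.1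
  · show (m * x.1 * m⁻¹) • (m • a) = m • a
    rw [mul_smul, mul_smul, inv_smul_smul, MulAction.mem_stabilizer_iff.mp x.2.2]

theorem orbit_norm {D : Subgroup G} [D.Normal]
    (hu : ∀ g : G, g ∉ D → ∃! ω : Ω, g • ω = ω) (R C : Subgroup G) (a : Ω)
    (hC : Cover D C) (hCa : C ≤ MulAction.stabilizer G a)
    (hCR : C ≤ Subgroup.normalizer (R : Set G)) :
    D.index ∣ Nat.card (MulAction.orbit ↥R a) - 1 := by
  rw [Nat.card_coe_set_eq]
  refine orbit_congr D hu C hC a hCa _ ?_ (MulAction.mem_orbit_self a)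
  rintro c hc z ⟨r, rfl⟩
  refine ⟨⟨c * r * c⁻¹, (Subgroup.mem_normalizer_iff.mp (hCR hc) _).mp r.2⟩, ?_⟩
  show (c * (r : G) * c⁻¹) • a = c • ((r : G) • a)
  have h1 : c⁻¹ • a = a := by
    rw [inv_smul_eq_iff]; exact (hCa hc).symm
  rw [mul_smul, mul_smul, h1]

variable {D : Subgroup G} [D.Normal] {q κ : ℕ} [Fact q.Prime]

theorem exists_above (hu : ∀ g : G, g ∉ D → ∃! ω : Ω, g • ω = ω) (hD : D ≠ ⊤)
    (hκ : ∀ a : Ω, κ = q ^ (Nat.card ↥(D ⊓ MulAction.stabilizer G a)).factorization q)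
    (R : Subgroup G) (a : Ω) (hR : Good D q κ R a)
    (hlt : Nat.card R < q ^ (Nat.card D).factorization q) :
    ∃ (R₂ : Subgroup G) (a₂ : Ω), Good D q κ R₂ a₂ ∧ R ≤ R₂ ∧
      R₂ ≤ Subgroup.normalizer (R : Set G) ∧
      Nat.card R * (D.index + 1) ≤ Nat.card R₂ := by
  classical
  obtain ⟨C, hC, hCa, hCR⟩ := hR.cover
  set M := Subgroup.normalizer (R : Set G) with hMdef
  have hMcov : Cover D M := fun g => by
    obtain ⟨c, hc, h⟩ := hC g; exact ⟨c, hCR hc, h⟩
  have hRM : R ≤ M := Subgroup.le_normalizer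
  let H := M ⊓ D
  have hRH : R ≤ H := le_inf hRM hR.le
  -- a larger `q`-subgroup inside `H`
  have hbig : ∃ P : Subgroup G, IsPGroup q P ∧ R ≤ P ∧ P ≤ H ∧ Nat.card R < Nat.card P := by
    obtain ⟨P, hP⟩ := (hR.pgroup.comap_of_injective D.subtype
      D.subtype_injective).exists_le_sylow (P := R.subgroupOf D)
    have hPc : Nat.card (P : Subgroup D) = q ^ (Nat.card D).factorization q :=
      P.card_eq_multiplicity
    haveI : Group.IsNilpotent (P : Subgroup D) := P.isPGroup'.isNilpotent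
    have hne : (R.subgroupOf D).subgroupOf (P : Subgroup D) < ⊤ := by
      rw [lt_top_iff_ne_top, Ne, Subgroup.subgroupOf_eq_top]
      intro hle
      have := Subgroup.card_le_of_le hle
      rw [hPc, Nat.card_congr (Subgroup.subgroupOfEquivOfLe hR.le).toEquiv] at this
      omega
    have hlt' := Group.normalizerCondition_of_isNilpotent _ hne
    obtain ⟨y, hy, hy'⟩ := SetLike.exists_of_lt hlt'
    let y' : G := ((y : D) : G)
    have hyM : y' ∈ M := by
      rw [Subgroup.mem_normalizer_iff]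
      intro x
      constructor
      · intro hx
        have := (Subgroup.mem_normalizer_iff.mp hy ⟨⟨x, hR.le hx⟩, hP hx⟩).mp
          (by simpa [Subgroup.mem_subgroupOf] using hx)
        simpa [Subgroup.mem_subgroupOf, y'] using this
      · intro hx
        have hxD : x ∈ D := by
          have := D.mul_mem (D.mul_mem (D.inv_mem (y : D).2) (hR.le hx)) (y : D).2
          simpa [mul_assoc, y'] using this
        have hxP : (⟨x, hxD⟩ : D) ∈ (P : Subgroup D) := by
          have h0 : (⟨y' * x * y'⁻¹, hR.le hx⟩ : D) ∈ (P : Subgroup D) :=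
            hP (by simpa [Subgroup.mem_subgroupOf] using hx)
          have := (P : Subgroup D).mul_mem ((P : Subgroup D).mul_mem
            ((P : Subgroup D).inv_mem y.2) h0) y.2
          have e : ((y : D))⁻¹ * ⟨y' * x * y'⁻¹, hR.le hx⟩ * (y : D) = ⟨x, hxD⟩ := by
            apply Subtype.ext; simp [y', mul_assoc]
          rwa [e] at this
        have := (Subgroup.mem_normalizer_iff.mp hy ⟨⟨x, hxD⟩, hxP⟩).mpr
          (by simpa [Subgroup.mem_subgroupOf, y'] using hx)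
        simpa [Subgroup.mem_subgroupOf] using this
    refine ⟨((P : Subgroup D).map D.subtype) ⊓ M, ?_, ?_, ?_, ?_⟩
    · exact ((P.isPGroup'.map D.subtype).to_inf_left)
    · exact le_inf (fun x hx => ⟨⟨x, hR.le hx⟩, hP hx, rfl⟩) hRM
    · rintro x ⟨⟨z, -, rfl⟩, hx⟩
      exact ⟨hx, z.2⟩
    · refine lt_of_le_of_ne (Subgroup.card_le_of_le
        (le_inf (fun x hx => ⟨⟨x, hR.le hx⟩, hP hx, rfl⟩) hRM)) fun he => hy' ?_
      have heq := Subgroup.eq_of_le_of_card_ge
        (le_inf (fun x hx => ⟨⟨x, hR.le hx⟩, hP hx, rfl⟩) hRM :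
          R ≤ ((P : Subgroup D).map D.subtype) ⊓ M) he.ge
      have hyin : y' ∈ R := by
        rw [heq]; exact ⟨⟨(y : D), y.2, rfl⟩, hyM⟩
      simpa [Subgroup.mem_subgroupOf, y'] using hyin
  obtain ⟨P, hPp, hRP, hPH, hPlt⟩ := hbig
  obtain ⟨S₂, hS₂⟩ := (hPp.comap_of_injective H.subtype
    H.subtype_injective).exists_le_sylow (P := P.subgroupOf H)
  let R₂ := (S₂ : Subgroup H).map H.subtype
  have hR₂H : R₂ ≤ H := Subgroup.map_subtype_le _
  have hPR₂ : P ≤ R₂ := fun x hx => ⟨⟨x, hPH hx⟩, hS₂ hx, rfl⟩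
  have hR₂c : Nat.card R₂ = q ^ (Nat.card H).factorization q := by
    rw [← S₂.card_eq_multiplicity]
    exact Nat.card_congr (Subgroup.equivMapOfInjective _ _ H.subtype_injective).symm.toEquiv
  let M₂ := M ⊓ Subgroup.normalizer (R₂ : Set G)
  have hM₂ : Cover D M₂ := by
    intro g
    obtain ⟨m, hm, hmD⟩ := hMcov g
    obtain ⟨h, hh, hhN⟩ := frattini_in (q := q) H M R₂ (fun m hm h hh =>
      ⟨M.mul_mem (M.mul_mem hm hh.1) (M.inv_mem hm),
        Subgroup.Normal.conj_mem ‹D.Normal› _ hh.2 m⟩) hR₂H hR₂c m hm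
    refine ⟨h * m, ⟨M.mul_mem hh.1 hm, hhN⟩, ?_⟩
    have e : (h * m)⁻¹ * g = (m⁻¹ * h⁻¹ * m) * (m⁻¹ * g) := by group
    rw [e]
    refine D.mul_mem ?_ hmD
    simpa using Subgroup.Normal.conj_mem ‹D.Normal› _ (D.inv_mem hh.2) m⁻¹
  obtain ⟨a₂, ha₂, -⟩ := special D hu hD M₂ hM₂
  obtain ⟨a₀, -, hsp⟩ := special D hu hD M hMcov
  obtain ⟨m₁, hm₁, e₁⟩ := hsp a (fun g => by
    obtain ⟨c, hc, h⟩ := hC g; exact ⟨c, ⟨hCR hc, hCa hc⟩, h⟩)
  obtain ⟨m₂, hm₂, e₂⟩ := hsp a₂ (fun g => by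
    obtain ⟨c, hc, h⟩ := ha₂ g; exact ⟨c, ⟨hc.1.1, hc.2⟩, h⟩)
  have hRa₂ : Nat.card ↥(R ⊓ MulAction.stabilizer G a₂) = κ := by
    rw [← e₂, card_conj R m₂ hm₂.1, ← card_conj R m₁ hm₁.1, e₁, hR.inf_card]
  have hR₂p : IsPGroup q R₂ := S₂.isPGroup'.map _
  have hR₂a : Nat.card ↥(R₂ ⊓ MulAction.stabilizer G a₂) = κ := by
    refine le_antisymm ?_ ?_
    · have hdvd : Nat.card ↥(R₂ ⊓ MulAction.stabilizer G a₂)
          ∣ Nat.card ↥(D ⊓ MulAction.stabilizer G a₂) :=
        Subgroup.card_dvd_of_le (inf_le_inf (hR₂H.trans inf_le_right) le_rfl)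
      obtain ⟨k, hk⟩ := (hR₂p.to_inf_left (K := MulAction.stabilizer G a₂)).exists_card_eq
      rw [hk] at hdvd ⊢
      rw [hκ a₂]
      exact Nat.pow_le_pow_right (Fact.out : q.Prime).pos
        (((Fact.out : q.Prime).pow_dvd_iff_le_factorization Nat.card_pos.ne').mp hdvd)
    · rw [← hRa₂]
      exact Subgroup.card_le_of_le (inf_le_inf (hRP.trans hPR₂) le_rfl)
  let C₂ := M₂ ⊓ MulAction.stabilizer G a₂
  have hC₂R : C₂ ≤ Subgroup.normalizer (R : Set G) := fun x hx => hx.1.1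
  have hC₂R₂ : C₂ ≤ Subgroup.normalizer (R₂ : Set G) := fun x hx => hx.1.2
  have hd₁ := orbit_norm hu R C₂ a₂ ha₂ inf_le_right hC₂R
  have hd₂ := orbit_norm hu R₂ C₂ a₂ ha₂ inf_le_right hC₂R₂
  have hk₁ := card_orbit_mul R a₂
  have hk₂ := card_orbit_mul R₂ a₂
  rw [hRa₂] at hk₁
  rw [hR₂a] at hk₂
  refine ⟨R₂, a₂, ⟨hR₂H.trans inf_le_right, hR₂p, ⟨C₂, ha₂, inf_le_right, hC₂R₂⟩, hR₂a⟩,
    hRP.trans hPR₂, hR₂H.trans inf_le_left, ?_⟩
  set k₁ := Nat.card (MulAction.orbit ↥R a₂)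
  set k₂ := Nat.card (MulAction.orbit ↥R₂ a₂)
  have hlt₂ : Nat.card R < Nat.card R₂ :=
    lt_of_lt_of_le hPlt (Subgroup.card_le_of_le hPR₂)
  obtain ⟨j, hj⟩ := Subgroup.card_dvd_of_le (hRP.trans hPR₂)
  have hκpos : 0 < κ := by rw [← hRa₂]; exact Nat.card_pos
  have hk : k₂ = k₁ * j := by
    refine Nat.eq_of_mul_eq_mul_right hκpos ?_
    rw [hk₂, hj, ← hk₁]; ring
  have hk1pos : 0 < k₁ := by
    rcases Nat.eq_zero_or_pos k₁ with h0 | h0
    · rw [h0, zero_mul] at hk₁; have := Nat.card_pos (α := R); omega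
    · exact h0
  have hj1 : 2 ≤ j := by
    by_contra hh
    have : Nat.card R₂ ≤ Nat.card R * 1 := by
      rw [hj]; exact Nat.mul_le_mul_left _ (by omega)
    omega
  -- `j` is `1` modulo the index
  have hjd : D.index ∣ j - 1 := by
    have h1 : (D.index : ℤ) ∣ (k₁ : ℤ) - 1 := by
      have := Int.natCast_dvd_natCast.mpr hd₁
      rwa [Nat.cast_sub hk1pos, Nat.cast_one] at this
    have h2 : (D.index : ℤ) ∣ (k₂ : ℤ) - 1 := by
      have := Int.natCast_dvd_natCast.mpr hd₂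
      have hk2pos : 0 < k₂ := by rw [hk]; positivity
      rwa [Nat.cast_sub hk2pos, Nat.cast_one] at this
    have h3 : (D.index : ℤ) ∣ (j : ℤ) - 1 := by
      have e : ((k₂ : ℤ) - 1) - ((k₁ : ℤ) - 1) * j = (j : ℤ) - 1 := by
        rw [hk]; push_cast; ring
      rw [← e]
      exact dvd_sub h2 (dvd_mul_of_dvd_left h1 _)
    apply Int.natCast_dvd_natCast.mp
    rwa [Nat.cast_sub (by omega), Nat.cast_one]
  have := Nat.le_of_dvd (by omega) hjd
  rw [hj]
  exact Nat.mul_le_mul_left _ (by omega)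

theorem exists_top (hu : ∀ g : G, g ∉ D → ∃! ω : Ω, g • ω = ω) (hD : D ≠ ⊤)
    (hκ : ∀ a : Ω, κ = q ^ (Nat.card ↥(D ⊓ MulAction.stabilizer G a)).factorization q) :
    ∀ (R : Subgroup G) (a : Ω), Good D q κ R a →
      ∃ (S : Subgroup G) (b : Ω), Good D q κ S b ∧
        Nat.card S = q ^ (Nat.card D).factorization q ∧
        (Nat.card R = Nat.card S ∨ Nat.card R * (D.index + 1) ≤ Nat.card S) := by
  intro R
  induction hk : Nat.card D - Nat.card R using Nat.strong_induction_on generalizing R with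
  | _ k ih =>
    intro a hR
    have hle : Nat.card R ≤ q ^ (Nat.card D).factorization q := by
      obtain ⟨e, he⟩ := hR.pgroup.exists_card_eq
      have := Subgroup.card_dvd_of_le hR.le
      rw [he] at this ⊢
      exact Nat.pow_le_pow_right (Fact.out : q.Prime).pos
        (((Fact.out : q.Prime).pow_dvd_iff_le_factorization Nat.card_pos.ne').mp this)
    rcases hle.eq_or_lt with he | hlt
    · exact ⟨R, a, hR, he, Or.inl rfl⟩
    obtain ⟨R₂, a₂, hG₂, -, -, hc₂⟩ := exists_above hu hD hκ R a hR hlt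
    have hgt : Nat.card R < Nat.card R₂ := by
      have h1 : 0 < D.index := Nat.pos_of_ne_zero Subgroup.index_ne_zero_of_finite
      have h2 := Nat.card_pos (α := R)
      nlinarith
    have hRD : Nat.card R₂ ≤ Nat.card D := Subgroup.card_le_of_le hG₂.le
    obtain ⟨S, b, hS, hSc, hor⟩ := ih _ (by omega) R₂ rfl a₂ hG₂
    refine ⟨S, b, hS, hSc, Or.inr (hc₂.trans ?_)⟩
    rcases hor with h | h
    · exact h.le
    · exact le_trans (Nat.le_mul_of_pos_right _ (Nat.succ_pos _)) h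

end Cfsg.Agent.DerangeIndex
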