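import Cfsg.Agent.Lib.DerangeIndex.Chain

/-!
An abelian regular subgroup of `D` normalised by a covering subgroup fixing a point forces an
abelian normal subgroup when the degree is less than `(d + 1) ^ 2`.
-/

set_option autoImplicit false

namespace Cfsg.Agent.DerangeIndex

variable {G Ω : Type*} [Group G] [Finite G] [MulAction G Ω] [Finite Ω]

/-- Points `z` such that `v` and `w` are in one orbit of the stabiliser of `z` in `D`. -/
def Same (D : Subgroup G) (v w : Ω) : Set Ω := {z | ∃ y ∈ D, y • z = z ∧ y • v = w}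

theorem same_smul (D : Subgroup G) [D.Normal] (g : G) (v w z : Ω) (hz : z ∈ Same D v w) :
    g • z ∈ Same D (g • v) (g • w) := by
  obtain ⟨y, hy, h1, h2⟩ := hz
  refine ⟨g * y * g⁻¹, Subgroup.Normal.conj_mem ‹D.Normal› y hy g, ?_, ?_⟩
  · rw [mul_smul, mul_smul, inv_smul_smul, h1]
  · rw [mul_smul, mul_smul, inv_smul_smul, h2]

theorem same_bound (D : Subgroup G) [D.Normal] [MulAction.IsPretransitive G Ω] (s : ℕ)
    (hs : ∀ v w : Ω, v ≠ w →
      D.index * s ≤ Nat.card (MulAction.orbit ↥(MulAction.stabilizer G v) w))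
    (hb : ∀ v w : Ω, v ≠ w →
      Nat.card (MulAction.orbit ↥(D ⊓ MulAction.stabilizer G v) w) ≤ D.index + 1)
    (hd : 0 < D.index) (v w : Ω) (hvw : v ≠ w) :
    s * (Same D v w).ncard ≤ Nat.card Ω - 1 := by
  classical
  haveI : Fintype Ω := Fintype.ofFinite Ω
  haveI : Fintype G := Fintype.ofFinite G
  let T : Finset ((Ω × Ω) × Ω) :=
    Finset.univ.filter fun t => t.1.1 ≠ t.1.2 ∧ t.2 ∈ Same D t.1.1 t.1.2
  let S : Finset Ω := Finset.univ.filter fun z => z ∈ Same D v w
  have hS : S.card = (Same D v w).ncard := by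
    rw [Set.ncard_eq_toFinset_card']
    congr 1; ext z; simp [S]
  let gv : Subgroup G := MulAction.stabilizer G v ⊓ MulAction.stabilizer G w
  have h1 : Fintype.card G * S.card ≤ Nat.card gv * T.card := by
    rw [← Finset.card_univ, ← Finset.card_product]
    let f : G × Ω → (Ω × Ω) × Ω := fun p => ((p.1 • v, p.1 • w), p.1 • p.2)
    refine le_trans (Finset.card_le_mul_card_image (f := f) _ (Nat.card gv) ?_)
      (Nat.mul_le_mul_left _ (Finset.card_le_card ?_))
    · intro b hb'
      rw [Finset.mem_image] at hb'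
      obtain ⟨⟨g₀, z₀⟩, -, rfl⟩ := hb'
      rw [Nat.card_eq_fintype_card, Fintype.card_subtype]
      refine Finset.card_le_card_of_injOn (fun p => g₀⁻¹ * p.1) ?_ ?_
      · rintro ⟨g, z⟩ hp
        simp only [Finset.coe_filter, Set.mem_setOf_eq, f, Prod.mk.injEq] at hp
        simp only [Finset.mem_coe, Finset.mem_filter, Finset.mem_univ, true_and, gv,
          Subgroup.mem_inf, MulAction.mem_stabilizer_iff]
        exact ⟨by rw [mul_smul, hp.2.1.1, inv_smul_smul],
          by rw [mul_smul, hp.2.1.2, inv_smul_smul]⟩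
      · rintro ⟨g, z⟩ hp ⟨g', z'⟩ hp' he
        simp only [Finset.coe_filter, Set.mem_setOf_eq, f, Prod.mk.injEq] at hp hp'
        have hgg : g = g' := mul_left_cancel he
        subst hgg
        rw [Prod.mk.injEq]
        exact ⟨rfl, MulAction.injective g (hp.2.2.trans hp'.2.2.symm)⟩
    · intro t ht
      simp only [Finset.mem_image, Finset.mem_product, Finset.mem_univ, true_and] at ht
      obtain ⟨⟨g, z⟩, hz, rfl⟩ := ht
      simp only [T, f, Finset.mem_filter, Finset.mem_univ, true_and]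
      exact ⟨fun h => hvw (MulAction.injective g h),
        same_smul D g v w z (by simpa [S] using hz)⟩
  have h2 : T.card ≤ D.index * (Nat.card Ω * Nat.card Ω - Nat.card Ω) := by
    refine le_trans (Finset.card_le_mul_card_image (f := fun t => (t.2, t.1.1)) _ D.index ?_)
      (Nat.mul_le_mul_left _ ?_)
    · intro b hb'
      rw [Finset.mem_image] at hb'
      obtain ⟨⟨⟨p, r⟩, z⟩, ht, rfl⟩ := hb'
      simp only [T, Finset.mem_filter, Finset.mem_univ, true_and] at ht
      have hzp : z ≠ p := by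
        rintro rfl
        obtain ⟨y, -, h1, h2⟩ := ht.2
        exact ht.1 (h1.symm.trans h2)
      let O : Finset Ω := Finset.univ.filter
        fun x => x ∈ MulAction.orbit ↥(D ⊓ MulAction.stabilizer G z) p
      have hO : O.card ≤ D.index + 1 := by
        have := hb z p hzp
        rw [Nat.card_eq_fintype_card, Fintype.card_subtype] at this
        exact this
      have hpO : p ∈ O := by simp [O]
      refine le_trans (Finset.card_le_card_of_injOn (fun t => t.1.2) ?_ ?_)
        (by rw [Finset.card_erase_of_mem hpO]; omega : (O.erase p).card ≤ D.index)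
      · rintro ⟨⟨p', r'⟩, z'⟩ hp
        simp only [Finset.coe_filter, Set.mem_setOf_eq, T, Finset.mem_filter,
          Finset.mem_univ, true_and, Prod.mk.injEq] at hp
        obtain ⟨⟨hne, y, hy, h1, h2⟩, rfl, rfl⟩ := hp
        simp only [Finset.mem_coe, Finset.mem_erase, O, Finset.mem_filter, Finset.mem_univ,
          true_and]
        exact ⟨hne.symm, ⟨⟨y, hy, h1⟩, h2⟩⟩
      · rintro ⟨⟨p', r'⟩, z'⟩ hp ⟨⟨p'', r''⟩, z''⟩ hp' he
        simp only [Finset.coe_filter, Set.mem_setOf_eq, Prod.mk.injEq] at hp hp'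
        simp only at he
        simp [hp.2.1, hp.2.2, hp'.2.1, hp'.2.2, he]
    · rw [Nat.card_eq_fintype_card, ← Finset.card_univ, ← Finset.offDiag_card]
      refine Finset.card_le_card fun b hb' => ?_
      rw [Finset.mem_image] at hb'
      obtain ⟨⟨⟨p, r⟩, z⟩, ht, rfl⟩ := hb'
      simp only [T, Finset.mem_filter, Finset.mem_univ, true_and] at ht
      rw [Finset.mem_offDiag]
      refine ⟨Finset.mem_univ _, Finset.mem_univ _, ?_⟩
      intro (hzp : z = p)
      subst hzp
      obtain ⟨y, -, h1, h2⟩ := ht.2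
      exact ht.1 (h1.symm.trans h2)
  have h3 : Fintype.card G =
      Nat.card Ω * (Nat.card (MulAction.orbit ↥(MulAction.stabilizer G v) w) * Nat.card gv) := by
    rw [card_orbit_mul, ← MulAction.index_stabilizer_of_transitive G v, Subgroup.index_mul_card,
      Nat.card_eq_fintype_card]
  rw [h3, hS] at h1
  set n := Nat.card Ω
  set k := Nat.card (MulAction.orbit ↥(MulAction.stabilizer G v) w)
  set c := (Same D v w).ncard
  have h4 : n * (k * Nat.card gv) * c ≤ Nat.card gv * (D.index * (n * n - n)) :=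
    h1.trans (Nat.mul_le_mul_left _ h2)
  have h5 : n * (k * c) ≤ D.index * (n * n - n) := by
    refine Nat.le_of_mul_le_mul_left ?_ (Nat.card_pos (α := gv))
    calc Nat.card gv * (n * (k * c)) = n * (k * Nat.card gv) * c := by ring
      _ ≤ _ := h4
  have h6 : n * n - n = n * (n - 1) := by rw [Nat.mul_sub, mul_one]
  rw [h6] at h5
  have h7 : k * c ≤ D.index * (n - 1) := by
    refine Nat.le_of_mul_le_mul_left ?_ (haveI : Nonempty Ω := ⟨v⟩; Nat.card_pos (α := Ω))
    calc n * (k * c) ≤ D.index * (n * (n - 1)) := h5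
      _ = n * (D.index * (n - 1)) := by ring
  refine Nat.le_of_mul_le_mul_left ?_ hd
  calc D.index * (s * c) = D.index * s * c := by ring
    _ ≤ k * c := Nat.mul_le_mul_right _ (hs v w hvw)
    _ ≤ _ := h7

theorem orbit_index (D : Subgroup G) [D.Normal] (v w : Ω) (hvw : v ≠ w)
    (hu : ∀ g : G, g ∉ D → ∃! ω : Ω, g • ω = ω)
    (hcov : Cover D (MulAction.stabilizer G v)) :
    Nat.card (MulAction.orbit ↥(MulAction.stabilizer G v) w)
      = D.index * Nat.card (MulAction.orbit ↥(D ⊓ MulAction.stabilizer G v) w) := by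
  have h1 := card_orbit_mul (MulAction.stabilizer G v) w
  have h2 := card_orbit_mul (D ⊓ MulAction.stabilizer G v) w
  have h3 := card_cover D _ hcov
  have he : D ⊓ MulAction.stabilizer G v ⊓ MulAction.stabilizer G w
      = MulAction.stabilizer G v ⊓ MulAction.stabilizer G w := by
    refine le_antisymm (inf_le_inf inf_le_right le_rfl) (le_inf (le_inf ?_ inf_le_left) inf_le_right)
    intro x hx
    by_contra hxD
    obtain ⟨z, -, hz⟩ := hu x hxD
    exact hvw ((hz v hx.1).trans (hz w hx.2).symm)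
  rw [he] at h2
  refine Nat.eq_of_mul_eq_mul_right (Nat.card_pos (α :=
    ↥(MulAction.stabilizer G v ⊓ MulAction.stabilizer G w))) ?_
  rw [h1, mul_assoc, h2, ← h3, inf_comm]
  ring

theorem endgame (D : Subgroup G) [D.Normal] [MulAction.IsPreprimitive G Ω] [FaithfulSMul G Ω]
    [Nontrivial Ω] [MulAction.IsPretransitive ↥D Ω]
    (hu : ∀ g : G, g ∉ D → ∃! ω : Ω, g • ω = ω)
    (hn : Nat.card Ω < (D.index + 1) ^ 2) (a : Ω) (Q C : Subgroup G) (hQD : Q ≤ D)
    (hcomm : ∀ x ∈ Q, ∀ y ∈ Q, x * y = y * x)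
    (htrans : ∀ z : Ω, ∃ q ∈ Q, q • a = z)
    (hfree : ∀ q ∈ Q, q • a = a → q = 1)
    (hC : Cover D C) (hCa : C ≤ MulAction.stabilizer G a)
    (hCQ : C ≤ Subgroup.normalizer (Q : Set G)) :
    ∃ N : Subgroup G, N.Normal ∧ IsMulCommutative ↥N ∧ N ≠ ⊥ := by
  classical
  haveI : Fintype Ω := Fintype.ofFinite Ω
  have hd : 0 < D.index := Nat.pos_of_ne_zero Subgroup.index_ne_zero_of_finite
  have hcov : ∀ v : Ω, Cover D (MulAction.stabilizer G v) := by
    intro v g
    obtain ⟨x, hx⟩ := MulAction.exists_smul_eq ↥D v (g • v)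
    refine ⟨(x : G)⁻¹ * g, ?_, ?_⟩
    · show ((x : G)⁻¹ * g) • v = v
      rw [mul_smul, ← hx, Subgroup.smul_def, inv_smul_smul]
    · have := Subgroup.Normal.conj_mem ‹D.Normal› _ x.2 g⁻¹
      simpa [mul_assoc] using this
  -- a smallest suborbit
  let P : ℕ → Prop := fun k => ∃ v w : Ω, v ≠ w ∧
    k = Nat.card (MulAction.orbit ↥(D ⊓ MulAction.stabilizer G v) w)
  have hP : ∃ k, P k := by
    obtain ⟨v, w, h⟩ := exists_pair_ne Ω
    exact ⟨_, v, w, h, rfl⟩
  obtain ⟨v₀, w₀, hne₀, hs₀⟩ := Nat.find_spec hP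
  set s := Nat.find hP
  have hmin : ∀ v w : Ω, v ≠ w →
      s ≤ Nat.card (MulAction.orbit ↥(D ⊓ MulAction.stabilizer G v) w) :=
    fun v w h => Nat.find_min' hP ⟨v, w, h, rfl⟩
  -- move it to `a`
  obtain ⟨u, hu₀⟩ := MulAction.exists_smul_eq G v₀ a
  let b := u • w₀
  have hab : a ≠ b := fun h => hne₀ (MulAction.injective u (hu₀.trans h))
  have hsb : Nat.card (MulAction.orbit ↥(D ⊓ MulAction.stabilizer G a) b) = s := by
    rw [hs₀]
    refine Nat.card_congr ((MulAction.toPerm u).subtypeEquiv fun z => ?_).symm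
    constructor
    · rintro ⟨y, rfl⟩
      refine ⟨⟨u * y.1 * u⁻¹, Subgroup.Normal.conj_mem ‹D.Normal› _ y.2.1 u, ?_⟩, ?_⟩
      · show (u * y.1 * u⁻¹) • a = a
        rw [← hu₀, mul_smul, mul_smul, inv_smul_smul,
          MulAction.mem_stabilizer_iff.mp y.2.2]
      · show (u * y.1 * u⁻¹) • (u • w₀) = u • ((y : G) • w₀)
        rw [mul_smul, mul_smul, inv_smul_smul]
    · rintro ⟨y, hy⟩
      refine ⟨⟨u⁻¹ * y.1 * u, ?_, ?_⟩, ?_⟩
      · simpa using Subgroup.Normal.conj_mem ‹D.Normal› _ y.2.1 u⁻¹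
      · show (u⁻¹ * y.1 * u) • v₀ = v₀
        rw [mul_smul, mul_smul, hu₀, MulAction.mem_stabilizer_iff.mp y.2.2, ← hu₀,
          inv_smul_smul]
      · show (u⁻¹ * y.1 * u) • w₀ = z
        rw [mul_smul, mul_smul]
        change (y.1 : G) • (u • w₀) = u • z at hy
        rw [hy, inv_smul_smul]
  have hbd : ∀ v w : Ω, v ≠ w →
      Nat.card (MulAction.orbit ↥(D ⊓ MulAction.stabilizer G v) w) ≤ D.index + 1 := by
    intro v w h
    have h1 := orbit_index D v w h hu (hcov v)
    have h2 : Nat.card (MulAction.orbit ↥(MulAction.stabilizer G v) w) ≤ Nat.card Ω - 1 := by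
      rw [Nat.card_coe_set_eq, ← Set.ncard_univ Ω, ← Set.ncard_singleton v,
        ← Set.ncard_diff (Set.subset_univ _) (Set.toFinite _)]
      refine Set.ncard_le_ncard ?_ (Set.toFinite _)
      rintro z ⟨g, rfl⟩
      refine ⟨Set.mem_univ _, fun hh => h ?_⟩
      have h3 : (g : G) • w = v := hh
      exact (MulAction.injective (g : G) (h3.trans g.2.symm)).symm
    rw [h1] at h2
    by_contra hh
    have : D.index * (D.index + 2) ≤ Nat.card Ω - 1 :=
      le_trans (Nat.mul_le_mul_left _ (by omega)) h2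
    have e : (D.index + 1) ^ 2 = D.index * (D.index + 2) + 1 := by ring
    rw [e] at hn
    have hpos : 0 < Nat.card Ω := Nat.card_pos
    generalize D.index * (D.index + 2) = k at this hn
    omega
  have hsame := same_bound D s (fun v w h => by
    rw [orbit_index D v w h hu (hcov v)]
    exact Nat.mul_le_mul_left _ (hmin v w h)) hbd hd
  have hspos : 0 < s := by
    rw [← hsb]
    haveI : Nonempty (MulAction.orbit ↥(D ⊓ MulAction.stabilizer G a) b) :=
      ⟨⟨b, MulAction.mem_orbit_self b⟩⟩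
    exact Nat.card_pos
  -- the translations
  choose τ hτQ hτ using htrans
  have hτu : ∀ q ∈ Q, τ (q • a) = q := by
    intro q hq
    have := hfree (q⁻¹ * τ (q • a)) (Q.mul_mem (Q.inv_mem hq) (hτQ _))
      (by rw [mul_smul, hτ, inv_smul_smul])
    exact (inv_mul_eq_one.mp this).symm
  have key : ∀ x ∈ D ⊓ MulAction.stabilizer G a, ∀ t ∈ Q,
      t • a ∈ MulAction.orbit ↥(MulAction.stabilizer G a) b →
      Nat.card (MulAction.orbit ↥(D ⊓ MulAction.stabilizer G a) (t • a)) = s →
      x * t * x⁻¹ = τ (x • t • a) := by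
    intro x hx t ht htb hts
    set b' := x • t • a with hb'
    set t' := τ b' with ht'
    have hxa : x • a = a := hx.2
    have hxia : x⁻¹ • a = a := by rw [inv_smul_eq_iff, hxa]
    have ht'a : t' • a = b' := hτ b'
    set h := t'⁻¹ * (x * t * x⁻¹) with hh
    suffices h = 1 by
      rw [hh, inv_mul_eq_one] at this
      exact this.symm
    by_contra hne
    obtain ⟨z₀, hz₀⟩ : ∃ z : Ω, h • z ≠ z := by
      by_contra hc
      push_neg at hc
      exact hne (eq_of_smul_eq_smul (fun z : Ω => by rw [hc z, one_smul]))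
    have hhD : h ∈ D := D.mul_mem (D.inv_mem (hQD (hτQ _)))
      (D.mul_mem (D.mul_mem hx.1 (hQD ht)) (D.inv_mem hx.1))
    let Bad : Set Ω := {y | h • y ≠ y}
    have hfix : s * Badᶜ.ncard ≤ Nat.card Ω - 1 := by
      refine le_trans (Nat.mul_le_mul_left _ (Set.ncard_le_ncard ?_ (Set.toFinite _)))
        (hsame z₀ (h • z₀) (Ne.symm hz₀))
      intro y hy
      exact ⟨h, hhD, not_not.mp hy, rfl⟩
    let O : Finset Ω := (Finset.univ.filter
      fun p => p ∈ MulAction.orbit ↥(D ⊓ MulAction.stabilizer G a) b').erase b'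
    have horb : MulAction.orbit ↥(D ⊓ MulAction.stabilizer G a) b'
        = MulAction.orbit ↥(D ⊓ MulAction.stabilizer G a) (t • a) := by
      rw [MulAction.orbit_eq_iff]; exact ⟨⟨x, hx⟩, rfl⟩
    have hO : O.card = s - 1 := by
      rw [Finset.card_erase_of_mem (by simp)]
      rw [← hts, ← horb, Nat.card_eq_fintype_card, Fintype.card_subtype]
    have hbad : s * Bad.ncard ≤ (s - 1) * (Nat.card Ω - 1) := by
      let U : Finset Ω := O.biUnion fun p => Finset.univ.filter fun z => z ∈ Same D b' p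
      have hU : s * U.card ≤ (s - 1) * (Nat.card Ω - 1) := by
        refine le_trans (Nat.mul_le_mul_left _ Finset.card_biUnion_le) ?_
        rw [Finset.mul_sum, ← hO]
        refine le_trans (Finset.sum_le_card_nsmul _ _ (Nat.card Ω - 1) ?_) (le_of_eq rfl)
        intro p hp
        have hpne : b' ≠ p := (Finset.mem_erase.mp hp).1.symm
        have := hsame b' p hpne
        rw [Set.ncard_eq_toFinset_card'] at this
        refine le_trans (le_of_eq ?_) this
        congr 2; ext z; simp
      refine le_trans (Nat.mul_le_mul_left _ ?_) hU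
      rw [← Set.ncard_coe_finset]
      refine Set.ncard_le_ncard_of_injOn (fun y => (τ y)⁻¹ • b') ?_ ?_ (Set.toFinite _)
      · intro y hy
        set m := τ y with hm
        have hma : m • a = y := hτ y
        set w := τ (x⁻¹ • y) with hw
        have hwa : w • a = x⁻¹ • y := hτ _
        set p := (x * t * x⁻¹) • y with hp
        have hpne : p ≠ t' • y := by
          intro he
          apply hy
          rw [hh, mul_smul, ← hp, he, inv_smul_smul]
        have hp0 : t' • y = m • b' := by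
          rw [← hma, ← mul_smul, hcomm t' (hτQ _) m (hτQ _), mul_smul, ht'a]
        -- the element fixing `y`
        set y₂ := x * w * x⁻¹ * m⁻¹ with hy₂
        have hy₂D : y₂ ∈ D := D.mul_mem (D.mul_mem (D.mul_mem hx.1 (hQD (hτQ _)))
          (D.inv_mem hx.1)) (D.inv_mem (hQD (hτQ _)))
        have h21 : y₂ • y = y := by
          rw [hy₂, mul_smul, mul_smul, mul_smul, ← hma, inv_smul_smul, hxia, hwa, smul_inv_smul,
            hma]
        have h22 : y₂ • (m • b') = p := by
          rw [hy₂, mul_smul, mul_smul, mul_smul, inv_smul_smul, hb', inv_smul_smul, hp,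
            mul_smul, mul_smul, ← mul_smul w t, hcomm w (hτQ _) t ht, mul_smul, hwa]
        set y₁ := x * t * x⁻¹ * t'⁻¹ with hy₁
        have hy₁D : y₁ ∈ D := D.mul_mem (D.mul_mem (D.mul_mem hx.1 (hQD ht))
          (D.inv_mem hx.1)) (D.inv_mem (hQD (hτQ _)))
        have h11 : y₁ • b' = b' := by
          conv_lhs => rw [← ht'a]
          rw [hy₁, mul_smul, inv_smul_smul, mul_smul, mul_smul, hxia]
        have h12 : y₁ • (t' • y) = p := by
          rw [hy₁, mul_smul, inv_smul_smul]
        simp only [Finset.mem_coe, U, Finset.mem_biUnion, Finset.mem_filter, Finset.mem_univ,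
          true_and, O, Finset.mem_erase]
        refine ⟨m⁻¹ • p, ⟨?_, ?_⟩, ?_⟩
        · intro he
          apply hpne
          rw [hp0, ← he, smul_inv_smul]
        · refine ⟨⟨m⁻¹ * y₂ * m, ?_, ?_⟩, ?_⟩
          · simpa using Subgroup.Normal.conj_mem ‹D.Normal› _ hy₂D m⁻¹
          · show (m⁻¹ * y₂ * m) • a = a
            rw [mul_smul, mul_smul, hma, h21, ← hma, inv_smul_smul]
          · show (m⁻¹ * y₂ * m) • b' = m⁻¹ • p
            rw [mul_smul, mul_smul, h22]
        · have := same_smul D m⁻¹ (t' • y) p b' ⟨y₁, hy₁D, h11, h12⟩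
          rw [hp0, inv_smul_smul] at this
          exact this
      · intro y₁ _ y₂ _ he
        have he' : (τ y₁)⁻¹ • b' = (τ y₂)⁻¹ • b' := he
        rw [← ht'a, ← mul_smul, ← mul_smul] at he'
        have := congrArg τ he'
        rw [hτu _ (Q.mul_mem (Q.inv_mem (hτQ _)) (hτQ _)),
          hτu _ (Q.mul_mem (Q.inv_mem (hτQ _)) (hτQ _))] at this
        have h3 := inv_injective (mul_right_cancel this)
        rw [← hτ y₁, h3, hτ]
    have hsum : Bad.ncard + Badᶜ.ncard = Nat.card Ω := Set.ncard_add_ncard_compl Bad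
    have hpos : 0 < Nat.card Ω := Nat.card_pos
    obtain ⟨j, hj⟩ : ∃ j, s = j + 1 := ⟨s - 1, by omega⟩
    rw [hj] at hfix hbad
    simp only [Nat.add_sub_cancel] at hbad
    obtain ⟨n', hn'⟩ : ∃ n', Nat.card Ω = n' + 1 := ⟨Nat.card Ω - 1, by omega⟩
    rw [hn'] at hsum hfix hbad
    simp only [Nat.add_sub_cancel] at hfix hbad
    nlinarith
  -- the set of minimal translations
  let S₀ : Set G := {t | t ∈ Q ∧ t • a ∈ MulAction.orbit ↥(MulAction.stabilizer G a) b ∧
    Nat.card (MulAction.orbit ↥(D ⊓ MulAction.stabilizer G a) (t • a)) = s}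
  have hS : ∀ g ∈ MulAction.stabilizer G a, ∀ t ∈ S₀, g * t * g⁻¹ ∈ S₀ := by
    intro g hg t ⟨ht, htb, hts⟩
    obtain ⟨c, hc, hcD⟩ := hC g
    set x := c⁻¹ * g with hx
    have hca : c⁻¹ • a = a := by rw [inv_smul_eq_iff]; exact (hCa hc).symm
    have hxa : x ∈ D ⊓ MulAction.stabilizer G a := ⟨hcD, by
      show (c⁻¹ * g) • a = a
      rw [mul_smul, MulAction.mem_stabilizer_iff.mp hg, hca]⟩
    have h1 := key x hxa t ht htb hts
    have e : g * t * g⁻¹ = c * (x * t * x⁻¹) * c⁻¹ := by rw [hx]; group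
    have hQ : g * t * g⁻¹ ∈ Q := by
      rw [e, h1]
      exact (Subgroup.mem_normalizer_iff.mp (hCQ hc) _).mp (hτQ _)
    have hga : (g * t * g⁻¹) • a = g • (t • a) := by
      have : g⁻¹ • a = a := by rw [inv_smul_eq_iff]; exact hg.symm
      rw [mul_smul, mul_smul, this]
    refine ⟨hQ, ?_, ?_⟩
    · rw [hga]
      obtain ⟨y, hy⟩ := htb
      refine ⟨⟨g, hg⟩ * y, ?_⟩
      have hy' : (y : G) • b = t • a := hy
      show (g * (y : G)) • b = g • t • a
      rw [mul_smul, hy']
    · rw [hga, ← hts]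
      refine Nat.card_congr ((MulAction.toPerm g).subtypeEquiv fun z => ?_).symm
      constructor
      · rintro ⟨y, rfl⟩
        refine ⟨⟨g * y.1 * g⁻¹, Subgroup.Normal.conj_mem ‹D.Normal› _ y.2.1 g,
          (MulAction.stabilizer G a).mul_mem ((MulAction.stabilizer G a).mul_mem hg y.2.2)
            ((MulAction.stabilizer G a).inv_mem hg)⟩, ?_⟩
        show (g * y.1 * g⁻¹) • (g • t • a) = g • ((y : G) • t • a)
        rw [mul_smul, mul_smul, inv_smul_smul]
      · rintro ⟨y, hy⟩
        refine ⟨⟨g⁻¹ * y.1 * g,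
          by simpa using Subgroup.Normal.conj_mem ‹D.Normal› _ y.2.1 g⁻¹,
          (MulAction.stabilizer G a).mul_mem ((MulAction.stabilizer G a).mul_mem
            ((MulAction.stabilizer G a).inv_mem hg) y.2.2) hg⟩, ?_⟩
        show (g⁻¹ * y.1 * g) • (t • a) = z
        change (y.1 : G) • (g • t • a) = g • z at hy
        rw [mul_smul, mul_smul, hy, inv_smul_smul]
  let W := Subgroup.closure S₀
  have hWQ : W ≤ Q := (Subgroup.closure_le Q).mpr fun t ht => ht.1
  have hWn : ∀ g ∈ MulAction.stabilizer G a, ∀ w ∈ W, g * w * g⁻¹ ∈ W := by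
    intro g hg w hw
    have hle : W ≤ W.comap (MulAut.conj g).toMonoidHom :=
      (Subgroup.closure_le _).mpr fun t ht => Subgroup.subset_closure (hS g hg t ht)
    exact hle hw
  have hbW : τ b ∈ W := Subgroup.subset_closure
    ⟨hτQ b, by rw [hτ]; exact MulAction.mem_orbit_self b, by rw [hτ]; exact hsb⟩
  have hNa : MulAction.stabilizer G a ≤ Subgroup.normalizer (W : Set G) := by
    intro g hg
    rw [Subgroup.mem_normalizer_iff]
    refine fun w => ⟨hWn g hg w, fun h => ?_⟩
    simpa [mul_assoc] using hWn g⁻¹ ((MulAction.stabilizer G a).inv_mem hg) _ h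
  have hlt : MulAction.stabilizer G a < Subgroup.normalizer (W : Set G) := by
    refine lt_of_le_of_ne hNa fun he => hab ?_
    have h1 : τ b ∈ MulAction.stabilizer G a := by
      rw [he]; exact Subgroup.le_normalizer hbW
    rw [MulAction.mem_stabilizer_iff, hτ] at h1
    exact h1.symm
  have htop := (MulAction.IsPreprimitive.isCoatom_stabilizer_of_isPreprimitive G a).2 _ hlt
  refine ⟨W, Subgroup.normalizer_eq_top_iff.mp htop, ?_, ?_⟩
  · exact ⟨⟨fun x y => Subtype.ext (hcomm _ (hWQ x.2) _ (hWQ y.2))⟩⟩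
  · intro h0
    rw [h0, Subgroup.mem_bot] at hbW
    apply hab
    rw [← hτ b, hbW, one_smul]

end Cfsg.Agent.DerangeIndex
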